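import Mathlib

set_option autoImplicit false
set_option linter.style.haveILetI false
set_option linter.unusedSectionVars false

/-!
The Singer group of multiplications and its normaliser.
-/

namespace Cfsg.Agent.Lib.Singer94.Basic

variable {F K : Type*} [Field F] [Fintype F] [Field K] [Fintype K] [Algebra F K]

variable (F K) in
/-- Multiplication as a homomorphism of unit groups. -/
noncomputable abbrev mulHom : Kˣ →* (Module.End F K)ˣ :=
  Units.map ((Algebra.lmul F K : K →ₐ[F] Module.End F K) : K →* Module.End F K)

lemma mulHom_apply (a : Kˣ) (x : K) : ((mulHom F K a : (Module.End F K)ˣ) : Module.End F K) x = a * x := by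
  simp [mulHom]

lemma mulHom_injective : Function.Injective (mulHom F K) := by
  intro a b h
  apply Units.ext
  have := mulHom_apply (F := F) a 1
  rw [h, mulHom_apply, mul_one, mul_one] at this
  exact this.symm

/-- The subfield of `a` with `a · g = g · b` for some `b`. -/
noncomputable def twistField (g : (Module.End F K)ˣ) : Subalgebra F K :=
  Subalgebra.comap (Algebra.lmul F K)
    (((Algebra.lmul F K).range).map
      (({ toFun := fun u => (g : Module.End F K) * u * ((g⁻¹ : (Module.End F K)ˣ) : Module.End F K)
          map_one' := by simp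
          map_mul' := fun u v => by simp [mul_assoc]
          map_zero' := by simp
          map_add' := fun u v => by simp [mul_add, add_mul]
          commutes' := fun r => by
            rw [← Algebra.commutes r (g : Module.End F K), mul_assoc, Units.mul_inv, mul_one] }) :
        Module.End F K →ₐ[F] Module.End F K))

lemma mem_twistField {g : (Module.End F K)ˣ} {a : K} :
    a ∈ twistField g ↔ ∃ b : K, (g : Module.End F K) * Algebra.lmul F K b * ((g⁻¹ : (Module.End F K)ˣ) : Module.End F K)
      = Algebra.lmul F K a := by
  simp [twistField]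

lemma mem_inf_iff (g : (Module.End F K)ˣ) (u : (Module.End F K)ˣ) :
    u ∈ ((mulHom F K).range).map (MulAut.conj g).toMonoidHom ⊓ (mulHom F K).range
      ↔ ∃ a : Kˣ, mulHom F K a = u ∧ (a : K) ∈ twistField g := by
  constructor
  · rintro ⟨⟨v, ⟨b, rfl⟩, hv⟩, a, ha⟩
    refine ⟨a, ha, mem_twistField.mpr ⟨b, ?_⟩⟩
    rw [← ha] at hv
    simpa [mulHom] using congrArg Units.val hv
  · rintro ⟨a, rfl, ha⟩
    obtain ⟨b, hb⟩ := mem_twistField.mp ha
    have hb0 : b ≠ 0 := by
      rintro rfl
      rw [map_zero, mul_zero, zero_mul] at hb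
      have := LinearMap.congr_fun hb 1
      simp at this
      exact a.ne_zero this.symm
    exact ⟨⟨mulHom F K (Units.mk0 b hb0), ⟨_, rfl⟩, Units.ext (by simpa [mulHom] using hb)⟩, a, rfl⟩

lemma card_inf (g : (Module.End F K)ˣ) :
    Nat.card ↥(((mulHom F K).range).map (MulAut.conj g).toMonoidHom ⊓ (mulHom F K).range)
      = Nat.card (twistField g) - 1 := by
  classical
  have h : Nat.card ↥(((mulHom F K).range).map (MulAut.conj g).toMonoidHom ⊓ (mulHom F K).range)
      = Nat.card {x : twistField g // x ≠ 0} := by
    refine (Nat.card_eq_of_bijective (fun x : {x : twistField g // x ≠ 0} =>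
      (⟨mulHom F K (Units.mk0 (x.1 : K) (fun h => x.2 (Subtype.ext h))),
        (mem_inf_iff g _).mpr ⟨_, rfl, x.1.2⟩⟩ :
        ↥(((mulHom F K).range).map (MulAut.conj g).toMonoidHom ⊓ (mulHom F K).range))) ⟨?_, ?_⟩).symm
    · intro x y hxy
      exact Subtype.ext (Subtype.ext (congrArg Units.val (mulHom_injective (Subtype.ext_iff.mp hxy))))
    · rintro ⟨u, hu⟩
      obtain ⟨a, rfl, ha⟩ := (mem_inf_iff g u).mp hu
      exact ⟨⟨⟨a, ha⟩, fun h => a.ne_zero (congrArg Subtype.val h)⟩, Subtype.ext (congrArg (mulHom F K) (Units.ext rfl))⟩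
  rw [h]
  haveI : Fintype (twistField g) := Fintype.ofFinite _
  rw [Nat.card_eq_fintype_card, Nat.card_eq_fintype_card, Fintype.card_subtype_compl, Fintype.card_subtype_eq]

theorem card_inf_dvd {n : ℕ} (hdim : Module.finrank F K = n) (g : (Module.End F K)ˣ)
    (hg : ((mulHom F K).range).map (MulAut.conj g).toMonoidHom ≠ (mulHom F K).range) :
    ∃ r : ℕ, 1 ≤ r ∧ r ∣ n ∧ r < n ∧
      Nat.card ↥(((mulHom F K).range).map (MulAut.conj g).toMonoidHom ⊓ (mulHom F K).range) ∣ Fintype.card F ^ r - 1 := by
  haveI : Finite (Module.End F K) := Module.finite_of_finite F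
  have hfld : IsField (twistField g) := Subalgebra.isField_of_algebraic _
  letI := hfld.toField
  have hmul := Module.finrank_mul_finrank F (twistField g) K
  have hn0 : 0 < n := hdim ▸ Module.finrank_pos
  refine ⟨Module.finrank F (twistField g), Module.finrank_pos, ⟨_, (hmul.trans hdim).symm⟩, ?_, ?_⟩
  · refine lt_of_le_of_ne (hdim ▸ Submodule.finrank_le (twistField g).toSubmodule) fun h => hg ?_
    have htop : ∀ a : K, a ∈ twistField g := by
      intro a
      have : (twistField g).toSubmodule = ⊤ := Submodule.eq_top_of_finrank_eq (hdim ▸ h)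
      have h2 : a ∈ (twistField g).toSubmodule := this ▸ Submodule.mem_top
      exact h2
    refine (Subgroup.eq_of_le_of_card_ge ?_ (le_of_eq ?_)).symm
    · rintro _ ⟨a, rfl⟩
      exact ((mem_inf_iff g _).mpr ⟨a, rfl, htop _⟩).1
    · exact Subgroup.card_map_of_injective (f := (MulAut.conj g).toMonoidHom) (MulAut.conj g).injective
  · rw [card_inf, Module.natCard_eq_pow_finrank (K := F) (V := twistField g), Nat.card_eq_fintype_card]

theorem card_normalizer {n : ℕ} (hdim : Module.finrank F K = n) :
    Nat.card (Subgroup.normalizer ((mulHom F K).range : Set (Module.End F K)ˣ)) = n * (Fintype.card K - 1) := by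
  classical
  have hfin : Finite (Module.End F K) := Module.finite_of_finite F
  let φ : Kˣ × (K ≃ₐ[F] K) → (Module.End F K)ˣ := fun p =>
    mulHom F K p.1 * LinearMap.GeneralLinearGroup.ofLinearEquiv p.2.toLinearEquiv
  have hφ : ∀ p x, (φ p : Module.End F K) x = p.1 * p.2 x := fun p x => by
    simp [φ, mulHom]
  have hinj : Function.Injective φ := by
    intro p q h
    have h1 : ∀ x, (p.1 : K) * p.2 x = q.1 * q.2 x := fun x => by rw [← hφ, ← hφ, h]
    have h2 := h1 1
    rw [map_one, map_one, mul_one, mul_one] at h2
    exact Prod.ext (Units.ext h2) (AlgEquiv.ext fun x => mul_left_cancel₀ p.1.ne_zero ((h1 x).trans (by rw [h2])))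
  have hrange : (Subgroup.normalizer ((mulHom F K).range : Set (Module.End F K)ˣ) : Set (Module.End F K)ˣ)
      = Set.range φ := by
    ext f
    simp only [SetLike.mem_coe, Subgroup.mem_normalizer_iff, Set.mem_range]
    constructor
    · intro h
      set c := (f : Module.End F K) 1 with hc
      have hinv : ∀ x, ((f⁻¹ : (Module.End F K)ˣ) : Module.End F K) ((f : Module.End F K) x) = x :=
        fun x => LinearMap.congr_fun f.inv_mul x
      have hinjf : Function.Injective (f : Module.End F K) := Function.LeftInverse.injective hinv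
      have hc0 : c ≠ 0 := fun h0 => one_ne_zero (hinjf (h0.trans (map_zero _).symm))
      have key : ∀ a x : K, (f : Module.End F K) (a * x) * c = (f : Module.End F K) a * (f : Module.End F K) x := by
        intro a x
        rcases eq_or_ne a 0 with rfl | ha
        · simp
        obtain ⟨b, hb⟩ := (h (mulHom F K (Units.mk0 a ha))).mp ⟨_, rfl⟩
        have h1 : ∀ y, (f : Module.End F K) (a * y) = b * (f : Module.End F K) y := by
          intro y
          have h3 := LinearMap.congr_fun (congrArg Units.val hb) ((f : Module.End F K) y)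
          simp only [mulHom_apply, Units.val_mul, Module.End.mul_apply, hinv, Units.val_mk0] at h3
          exact h3.symm
        have h2 : (f : Module.End F K) a = b * c := by simpa using h1 1
        rw [h1, h2]
        ring
      let σ : K →ₐ[F] K :=
        { toFun := fun x => (f : Module.End F K) x / c
          map_one' := div_self hc0
          map_mul' := fun a x => by rw [div_mul_div_comm, ← key, mul_div_mul_right _ _ hc0]
          map_zero' := by simp
          map_add' := fun a b => by rw [map_add, add_div]
          commutes' := fun r => by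
            rw [Algebra.algebraMap_eq_smul_one, map_smul, smul_div_assoc, div_self hc0] }
      refine ⟨(Units.mk0 c hc0, AlgEquiv.ofBijective σ (Algebra.IsAlgebraic.algHom_bijective σ)), ?_⟩
      refine Units.ext (LinearMap.ext fun x => ?_)
      rw [hφ]
      show c * ((f : Module.End F K) x / c) = _
      field_simp
    · rintro ⟨⟨u, σ⟩, rfl⟩
      have key : ∀ a : Kˣ, φ (u, σ) * mulHom F K a = mulHom F K (Units.map (σ : K →* K) a) * φ (u, σ) := by
        intro a
        refine Units.ext (LinearMap.ext fun x => ?_)
        simp only [Units.val_mul, Module.End.mul_apply, hφ, Units.coe_map, MonoidHom.coe_coe,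
          Algebra.coe_lmul_eq_mul, LinearMap.mul_apply', map_mul]
        ring
      intro v
      constructor
      · rintro ⟨a, rfl⟩
        exact ⟨Units.map (σ : K →* K) a, by rw [key, mul_inv_cancel_right]⟩
      · rintro ⟨b, hb⟩
        refine ⟨Units.map (σ.symm : K →* K) b, ?_⟩
        have h1 := key (Units.map (σ.symm : K →* K) b)
        have h2 : Units.map (σ : K →* K) (Units.map (σ.symm : K →* K) b) = b := Units.ext (by simp)
        rw [h2, hb, inv_mul_cancel_right] at h1
        exact mul_left_cancel h1
  rw [← SetLike.coe_sort_coe, Nat.card_coe_set_eq, hrange, Set.ncard_range_of_injective hinj]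
  rw [Nat.card_prod, Nat.card_units, IsGalois.card_aut_eq_finrank, hdim, Nat.card_eq_fintype_card, mul_comm]

end Cfsg.Agent.Lib.Singer94.Basic
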